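import Mathlib

/-! Homomorphisms of Dieudonne modules modulo those in the image of Verschiebung. -/

set_option autoImplicit false

universe u v w x

namespace Groth.Dieud71

variable {R : Type u} [CommRing R] {I : Ideal R} [I.IsMaximal]

/-- Linear maps from a submodule of a module killed by a maximal ideal extend. -/
theorem exists_extend {P : Type v} [AddCommGroup P] [Module R P] (hP : Module.IsTorsionBySet R P I)
    {Q : Type w} [AddCommGroup Q] [Module R Q] (U : Submodule R P) (f : U →ₗ[R] Q) :
    ∃ g : P →ₗ[R] Q, g ∘ₗ U.subtype = f := by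
  letI := Ideal.Quotient.field I
  letI := hP.module
  haveI : IsScalarTower R (R ⧸ I) P := hP.isScalarTower
  let U' : Submodule (R ⧸ I) P :=
    { U.toAddSubmonoid with
      smul_mem' := fun c x hx => by
        obtain ⟨c, rfl⟩ := Ideal.Quotient.mk_surjective c
        rw [hP.mk_smul]
        exact U.smul_mem c hx }
  obtain ⟨V, hV⟩ := exists_isCompl U'
  have hcompl : IsCompl U (V.restrictScalars R) := by
    constructor
    · rw [Submodule.disjoint_def]
      exact fun x hx hx' => Submodule.disjoint_def.1 hV.1 x hx hx'
    · rw [codisjoint_iff, eq_top_iff]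
      intro x _
      obtain ⟨a, ha, b, hb, hab⟩ := Submodule.mem_sup.1 (hV.2.eq_top ▸ (Submodule.mem_top : x ∈ (⊤ : Submodule (R ⧸ I) P)))
      exact Submodule.mem_sup.2 ⟨a, ha, b, hb, hab⟩
  exact ⟨f ∘ₗ Submodule.projectionOnto U _ hcompl, LinearMap.ext fun x => congrArg f (Submodule.projectionOnto_apply_left hcompl x)⟩

/-- Length of a module of homomorphisms between modules killed by a maximal ideal. -/
theorem length_hom {P : Type v} [AddCommGroup P] [Module R P] (hP : Module.IsTorsionBySet R P I)
    {Q : Type w} [AddCommGroup Q] [Module R Q] (hQ : Module.IsTorsionBySet R Q I) (s r : ℕ)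
    (hs : Module.length R P = s) (hr : Module.length R Q = r) :
    Module.length R (P →ₗ[R] Q) = (r * s : ℕ) := by
  letI := Ideal.Quotient.field I
  letI := hP.module
  letI := hQ.module
  haveI : IsScalarTower R (R ⧸ I) P := hP.isScalarTower
  haveI : IsScalarTower R (R ⧸ I) Q := hQ.isScalarTower
  have hsurj : Function.Surjective (algebraMap R (R ⧸ I)) := Ideal.Quotient.mk_surjective
  have hsP : Module.length (R ⧸ I) P = s := by rw [← hs, ← Module.length_eq_of_surjective hsurj]
  have hrQ : Module.length (R ⧸ I) Q = r := by rw [← hr, ← Module.length_eq_of_surjective hsurj]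
  haveI : Module.Finite (R ⧸ I) P := by
    have := (Module.length_ne_top_iff (R := R ⧸ I) (M := P)).1 (by rw [hsP]; exact ENat.natCast_ne_top s)
    exact ⟨(isFiniteLength_iff_isNoetherian_isArtinian.1 this).1.noetherian ⊤⟩
  haveI : Module.Finite (R ⧸ I) Q := by
    have := (Module.length_ne_top_iff (R := R ⧸ I) (M := Q)).1 (by rw [hrQ]; exact ENat.natCast_ne_top r)
    exact ⟨(isFiniteLength_iff_isNoetherian_isArtinian.1 this).1.noetherian ⊤⟩
  rw [Module.length_eq_finrank, Nat.cast_inj] at hsP hrQ
  rw [(LinearMap.extendScalarsOfSurjectiveEquiv (M := P) (N := Q) hsurj).length_eq,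
    Module.length_eq_of_surjective hsurj]
  rw [Module.length_eq_finrank, Module.finrank_linearMap, hsP, hrQ, mul_comm]

end Groth.Dieud71
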